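import Groth.Agent.FibDescLib.FibreBC
import Groth.Agent.FibDescSS.Basic
import Groth.Agent.CompactPull.Germ

/-!
Inverse images along maps of augmented families are computed levelwise.
-/

set_option autoImplicit false
set_option backward.isDefEq.respectTransparency false
set_option backward.isDefEq.respectTransparency.types false
set_option backward.defeqAttrib.useBackward true
set_option linter.style.haveILetI false

universe u

open CategoryTheory CategoryTheory.Limits Opposite TopologicalSpace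
open CategoryTheory.Pseudofunctor CategoryTheory.Pseudofunctor.CoGrothendieck

namespace Groth.Agent.FibDescLib

variable {D : Type} [SmallCategory D]

/-- Coextension is adjoint to restriction. -/
noncomputable abbrev coeAdj (Y : (WithInitial D)ᵒᵖ ⥤ TopCat.{u}) (n : D) : lv Y n ⊣ coe Y n :=
  (ιp Y n).sheafAdjunctionCocontinuous AddCommGrpCat.{u} (Opens.grothendieckTopology (sp Y n)) (totTop Y)

theorem rπ_counit (Y : (WithInitial D)ᵒᵖ ⥤ TopCat.{u}) (n : D) (G : CohTop.Ab (sp Y n)) {d : Tot Y}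
    {W : Opens (sp Y n)} (g : (ιp Y n).obj W ⟶ d) :
    ((coe Y n).obj G).obj.map g.op ≫ ((coeAdj Y n).counit.app G).hom.app (op W) = rπ (ιp Y n) G.obj g := by
  refine (homEquiv_rπ (G := ιp Y n) (Opens.grothendieckTopology (sp Y n)) (totTop Y)
    ((coeAdj Y n).counit.app G) g).symm.trans ?_
  rw [show (coeAdj Y n).homEquiv _ _ ((coeAdj Y n).counit.app G) = 𝟙 _ from
    (Adjunction.homEquiv_unit _ _ _ _).trans ((coeAdj Y n).right_triangle_components G)]
  exact Category.id_comp _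

namespace AugMap

variable {Y' Y : (WithInitial D)ᵒᵖ ⥤ TopCat.{u}} (M : AugMap Y' Y) (n : D)

/-- The adjunction in degree `n`. -/
noncomputable abbrev tAdj : CohTop.pull (M.τ.t n) ⊣ CohTop.push (M.τ.t n) :=
  TopCat.Sheaf.pullbackPushforwardAdjunction AddCommGrpCat.{u} (M.τ.t n)

/-- The comparison in degree `n`. -/
noncomputable def μ (N : DS Y) :
    (CohTop.pull (M.τ.t n)).obj ((lv Y n).obj N) ⟶ (lv Y' n).obj (M.jP.obj N) :=
  ((M.tAdj n).homEquiv ((lv Y n).obj N) ((lv Y' n).obj (M.jP.obj N))).symm ((lv Y n).map (M.ladj.unit.app N))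

theorem unit_μ (N : DS Y) :
    (M.tAdj n).unit.app ((lv Y n).obj N) ≫ (CohTop.push (M.τ.t n)).map (M.μ n N) =
      (lv Y n).map (M.ladj.unit.app N) :=
  ((M.tAdj n).homEquiv_unit _ _ _).symm.trans (Equiv.apply_symm_apply _ _)

theorem μ_pulled (N : DS Y) (W : Opens (sp Y n)) (s : N.obj.obj (op (pob n W))) :
    (M.μ n N).hom.app (op ((Opens.map (M.τ.t n)).obj W)) (CompactPull.pulled (M.τ.t n) ((lv Y n).obj N) (U := W) s) =
      (M.ladj.unit.app N).hom.app (op (pob n W)) s :=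
  ConcreteCategory.congr_hom (congr_app (congrArg (fun φ => φ.hom) (M.unit_μ n N)) (op W)) s

/-- The comparison of coextensions. -/
noncomputable def γ (G : CohTop.Ab (sp Y' n)) :
    M.τ.pushL.obj ((coe Y' n).obj G) ⟶ (coe Y n).obj ((CohTop.push (M.τ.t n)).obj G) :=
  (coeAdj Y n).homEquiv (M.τ.pushL.obj ((coe Y' n).obj G)) ((CohTop.push (M.τ.t n)).obj G)
    ((CohTop.push (M.τ.t n)).map ((coeAdj Y' n).counit.app G))

theorem γ_rπ (G : CohTop.Ab (sp Y' n)) {d : Tot Y} {W : Opens (sp Y n)} (g : (ιp Y n).obj W ⟶ d) :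
    (M.γ n G).hom.app (op d) ≫ rπ (ιp Y n) ((CohTop.push (M.τ.t n)).obj G).obj g =
      rπ (ιp Y' n) G.obj (M.τ.H.map g) :=
  (homEquiv_rπ (G := ιp Y n) (Opens.grothendieckTopology (sp Y n)) (totTop Y) _ g).trans
    (rπ_counit Y' n G (d := M.τ.H.obj d) (W := (Opens.map (M.τ.t n)).obj W) (M.τ.H.map g))

/-- The largest open set over an arrow. -/
noncomputable abbrev bigW (d : Tot Y) (a : d.base.unop ⟶ n) : Opens (sp Y n) :=
  (Opens.map (spMap Y a)).obj (fib d)

/-- Its arrow. -/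
noncomputable abbrev bigArr (d : Tot Y) (a : d.base.unop ⟶ n) : (ιp Y n).obj (bigW n d a) ⟶ d :=
  (ph a le_rfl : pob n (bigW n d a) ⟶ pob d.base.unop (fib d))

theorem le_bigW {d : Tot Y} {W' : Opens (sp Y' n)} (g : (ιp Y' n).obj W' ⟶ M.τ.H.obj d) :
    W' ≤ (Opens.map (M.τ.t n)).obj (bigW n d (g.base.unop : d.base.unop ⟶ n)) := by
  intro z hz
  show spMap Y g.base.unop (M.τ.t n z) ∈ fib d
  exact (M.τ.nat_apply (g.base.unop : d.base.unop ⟶ n) z) ▸ hom_le g hz

/-- The components of the inverse of `γ`. -/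
noncomputable def γProj (G : CohTop.Ab (sp Y' n)) (d : Tot Y) (a : d.base.unop ⟶ n) (W' : Opens (sp Y' n))
    (l : W' ≤ (Opens.map (M.τ.t n)).obj (bigW n d a)) :
    ((coe Y n).obj ((CohTop.push (M.τ.t n)).obj G)).obj.obj (op d) ⟶ G.obj.obj (op W') :=
  rπ (ιp Y n) ((CohTop.push (M.τ.t n)).obj G).obj (bigArr n d a) ≫ G.obj.map (homOfLE l).op

theorem γProj_congr (G : CohTop.Ab (sp Y' n)) (d : Tot Y) {a a' : d.base.unop ⟶ n} (h : a = a')
    (W' : Opens (sp Y' n)) (l : W' ≤ (Opens.map (M.τ.t n)).obj (bigW n d a))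
    (l' : W' ≤ (Opens.map (M.τ.t n)).obj (bigW n d a')) : M.γProj n G d a W' l = M.γProj n G d a' W' l' := by
  subst h
  rfl

theorem γProj_res (G : CohTop.Ab (sp Y' n)) (d : Tot Y) (a : d.base.unop ⟶ n) {W W' : Opens (sp Y' n)}
    (h : W' ⟶ W) (l : W ≤ (Opens.map (M.τ.t n)).obj (bigW n d a)) :
    M.γProj n G d a W l ≫ G.obj.map h.op = M.γProj n G d a W' (h.le.trans l) :=
  (Category.assoc _ _ _).trans
    (congrArg (CategoryStruct.comp _) ((G.obj.map_comp _ _).symm.trans (congrArg G.obj.map (Subsingleton.elim _ _))))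

theorem base_comp {c c' : Opens (sp Y' n)} (h : c' ⟶ c) {d : Tot Y} (g : (ιp Y' n).obj c ⟶ M.τ.H.obj d) :
    (((ιp Y' n).map h ≫ g).base.unop : d.base.unop ⟶ n) = g.base.unop := by
  have e : ((ιp Y' n).map h).base = 𝟙 (op n) := rfl
  show (((ιp Y' n).map h).base ≫ g.base).unop = g.base.unop
  rw [e]
  exact congrArg Quiver.Hom.unop (Category.id_comp g.base)

/-- The candidate projection at an arrow. -/
noncomputable def γAt (G : CohTop.Ab (sp Y' n)) (d : Tot Y) (W' : Opens (sp Y' n))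
    (g : (ιp Y' n).obj W' ⟶ M.τ.H.obj d) :
    ((coe Y n).obj ((CohTop.push (M.τ.t n)).obj G)).obj.obj (op d) ⟶ G.obj.obj (op W') :=
  M.γProj n G d g.base.unop W' (M.le_bigW n g)

theorem γAt_res (G : CohTop.Ab (sp Y' n)) (d : Tot Y) {W W' : Opens (sp Y' n)} (h : W' ⟶ W)
    (g : (ιp Y' n).obj W ⟶ M.τ.H.obj d) :
    M.γAt n G d W' ((ιp Y' n).map h ≫ g) = M.γAt n G d W g ≫ G.obj.map h.op := by
  refine (M.γProj_congr n G d (M.base_comp n h g) W' _ (h.le.trans (M.le_bigW n g))).trans ?_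
  exact (M.γProj_res n G d _ h (M.le_bigW n g)).symm

theorem exists_γInv (G : CohTop.Ab (sp Y' n)) (d : Tot Y) :
    ∃ f : ((coe Y n).obj ((CohTop.push (M.τ.t n)).obj G)).obj.obj (op d) ⟶
        ((ιp Y' n).op.ran.obj G.obj).obj (op (M.τ.H.obj d)),
      ∀ W' g, f ≫ rπ (ιp Y' n) G.obj g = M.γAt n G d W' g :=
  exists_rlift (G := ιp Y' n) (P := G.obj) (d := M.τ.H.obj d) (M.γAt n G d) fun _ _ h g => M.γAt_res n G d h g

theorem isIso_γ (G : CohTop.Ab (sp Y' n)) : IsIso (M.γ n G) := by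
  have : ∀ x, IsIso ((M.γ n G).hom.app x) := by
    intro x
    obtain ⟨f, hf⟩ := M.exists_γInv n G x.unop
    refine ⟨f, rπ_ext (G := ιp Y' n) fun W' g => ?_, rπ_ext (G := ιp Y n) fun W g => ?_⟩
    · let a : x.unop.base.unop ⟶ n := g.base.unop
      refine (Category.assoc _ _ _).trans ((congrArg (CategoryStruct.comp _) (hf W' g)).trans ?_)
      refine (Category.assoc _ _ _).symm.trans ((congrArg (fun t => t ≫ _) (M.γ_rπ n G (bigArr n x.unop a))).trans ?_)
      refine Eq.trans ?_ (Category.id_comp _).symm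
      refine (rπ_comp (G := ιp Y' n) G.obj (c := (Opens.map (M.τ.t n)).obj (bigW n x.unop a))
        (homOfLE (M.le_bigW n g)) (M.τ.H.map (bigArr n x.unop a))).symm.trans ?_
      exact congrArg (rπ (ιp Y' n) G.obj) (tot_hom_ext (by simp [LMap.H, a]))
    · let a : x.unop.base.unop ⟶ n := g.base.unop
      refine (Category.assoc _ _ _).trans ((congrArg (CategoryStruct.comp _) (M.γ_rπ n G g)).trans ?_)
      refine ((hf _ (M.τ.H.map g)).trans ?_).trans (Category.id_comp _).symm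
      have hW : W ≤ bigW n x.unop a := fun z hz => hom_le g hz
      have e : g = (ιp Y n).map (homOfLE hW) ≫ bigArr n x.unop a := tot_hom_ext (by simp [a])
      refine Eq.trans ?_ ((congrArg (rπ (ιp Y n) ((CohTop.push (M.τ.t n)).obj G).obj) e).trans
        (rπ_comp _ (homOfLE hW) (bigArr n x.unop a))).symm
      exact congrArg (_ ≫ ·) (congrArg G.obj.map (Subsingleton.elim _ _))
  have : IsIso (M.γ n G).hom := NatIso.isIso_of_isIso_app _
  have : IsIso ((sheafToPresheaf _ _).map (M.γ n G)) := ‹IsIso (M.γ n G).hom›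
  exact isIso_of_reflects_iso _ (sheafToPresheaf _ _)

theorem isIso_μ (N : DS Y) : IsIso (M.μ n N) := by
  have hb : ∀ G : CohTop.Ab (sp Y' n),
      Function.Bijective fun ψ : (lv Y' n).obj (M.jP.obj N) ⟶ G => M.μ n N ≫ ψ := by
    intro G
    haveI := M.isIso_γ n G
    let E := ((coeAdj Y' n).homEquiv (M.jP.obj N) G).trans
      ((M.ladj.homEquiv N ((coe Y' n).obj G)).trans ((asIso (M.γ n G)).homToEquiv.trans
        (((coeAdj Y n).homEquiv N ((CohTop.push (M.τ.t n)).obj G)).symm.trans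
          ((M.tAdj n).homEquiv ((lv Y n).obj N) G).symm)))
    have e : (fun ψ : (lv Y' n).obj (M.jP.obj N) ⟶ G => M.μ n N ≫ ψ) = E := by
      funext ψ
      refine ((M.tAdj n).homEquiv _ _).injective ?_
      refine ((M.tAdj n).homEquiv_naturality_right _ _).trans ?_
      refine (congrArg (· ≫ _) (Equiv.apply_symm_apply _ _)).trans ?_
      refine Eq.trans ?_ (Equiv.apply_symm_apply _ _).symm
      refine ((coeAdj Y n).homEquiv _ _).injective ?_
      refine Eq.trans ?_ (Equiv.apply_symm_apply _ _).symm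
      let φ := (coeAdj Y' n).homEquiv (M.jP.obj N) G ψ
      have hψ : (lv Y' n).map φ ≫ (coeAdj Y' n).counit.app G = ψ :=
        ((coeAdj Y' n).homEquiv_counit _ _ φ).symm.trans (Equiv.symm_apply_apply _ ψ)
      show _ = M.ladj.homEquiv N ((coe Y' n).obj G) φ ≫ M.γ n G
      refine Eq.trans (congrArg ((coeAdj Y n).homEquiv _ _) ?_) ((coeAdj Y n).homEquiv_naturality_left _ _)
      rw [Adjunction.homEquiv_unit]
      refine Eq.trans ?_ (congrArg (· ≫ _) ((lv Y n).map_comp _ _)).symm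
      refine Eq.trans ?_ (Category.assoc _ _ _).symm
      refine congrArg ((lv Y n).map (M.ladj.unit.app N) ≫ ·) ?_
      exact (congrArg (CohTop.push (M.τ.t n)).map hψ.symm).trans ((CohTop.push (M.τ.t n)).map_comp _ _)
    rw [e]
    exact E.bijective
  obtain ⟨ψ, hψ⟩ := (hb _).2 (𝟙 _)
  exact ⟨ψ, hψ, (hb _).1 (by
    show M.μ n N ≫ ψ ≫ M.μ n N = M.μ n N ≫ 𝟙 _
    rw [← Category.assoc, show M.μ n N ≫ ψ = 𝟙 _ from hψ, Category.id_comp, Category.comp_id])⟩

end AugMap

end Groth.Agent.FibDescLib
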