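import Groth.Agent.FibDescSS.FibreDescent
import Groth.Agent.FibDescLib.BiCech
import Groth.Agent.FibDescLib.Local

/-!
A proper separated surjective map is of cohomological descent.
-/

set_option autoImplicit false
set_option backward.isDefEq.respectTransparency false
set_option backward.isDefEq.respectTransparency.types false
set_option backward.defeqAttrib.useBackward true
set_option linter.style.haveILetI false

universe u

open CategoryTheory CategoryTheory.Limits Opposite TopologicalSpace Topology Filter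

namespace Groth.Agent.FibDescLib

attribute [local instance] HasDerivedCategory.standard

variable {X S : TopCat.{u}} (f : X ⟶ S)

/-- The point. -/
abbrev ptT : TopCat.{u} := TopCat.of PUnit.{u + 1}

/-- A point, as a map. -/
abbrev cst {T : TopCat.{u}} (t : T) : ptT.{u} ⟶ T := TopCat.ofHom ⟨fun _ => t, continuous_const⟩

theorem pow_π_base (n : ℕ) (i : Fin (n + 1)) :
    (WidePullback.π _ i : pow f n ⟶ X) ≫ f = WidePullback.base _ :=
  WidePullback.π_arrow _ i

theorem pow_ext {n : ℕ} {a b : pow f n} (h : ∀ i, WidePullback.π (fun _ : Fin (n + 1) => f) i a =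
    WidePullback.π (fun _ : Fin (n + 1) => f) i b) : a = b := by
  have e : cst a = cst b := by
    refine WidePullback.hom_ext _ _ _ (fun i => ?_) ?_
    · ext
      exact h i
    · ext
      show WidePullback.base (fun _ : Fin (n + 1) => f) a = WidePullback.base (fun _ : Fin (n + 1) => f) b
      rw [← pow_π_base f n 0, ConcreteCategory.comp_apply, ConcreteCategory.comp_apply, h]
  exact ConcreteCategory.congr_hom e PUnit.unit

theorem exists_pow_point (n : ℕ) (s : S) (x : Fin (n + 1) → X) (hx : ∀ i, f (x i) = s) :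
    ∃ a : pow f n, WidePullback.base (fun _ : Fin (n + 1) => f) a = s ∧
      ∀ i, WidePullback.π (fun _ : Fin (n + 1) => f) i a = x i := by
  let l : ptT.{u} ⟶ pow f n := WidePullback.lift (cst s) (fun i => cst (x i)) fun i => by
    ext
    exact hx i
  exact ⟨l PUnit.unit, ConcreteCategory.congr_hom (WidePullback.lift_base (fun _ : Fin (n + 1) => f) (cst s) (fun i => cst (x i)) _) PUnit.unit,
    fun i => ConcreteCategory.congr_hom (WidePullback.lift_π (fun _ : Fin (n + 1) => f) (cst s) (fun i => cst (x i)) _ i) PUnit.unit⟩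

theorem isProperMap_pow_base (hf : IsProperMap f) (n : ℕ) :
    IsProperMap (WidePullback.base (fun _ : Fin (n + 1) => f) : pow f n ⟶ S) := by
  refine isProperMap_iff_ultrafilter.2 ⟨(WidePullback.base _ : pow f n ⟶ S).hom.continuous, fun 𝒰 s hs => ?_⟩
  have hi : ∀ i, ∃ x, f x = s ∧ (𝒰.map (WidePullback.π (fun _ : Fin (n + 1) => f) i) : Filter X) ≤ 𝓝 x := fun i => by
    refine (isProperMap_iff_ultrafilter.1 hf).2 ?_
    rw [Ultrafilter.coe_map, tendsto_map'_iff]
    exact Tendsto.congr (fun a => (ConcreteCategory.congr_hom (pow_π_base f n i) a).symm) hs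
  choose x hx hlim using hi
  obtain ⟨a, ha, hai⟩ := exists_pow_point f n s x hx
  refine ⟨a, ha, ?_⟩
  rw [show (pow f n).str = _ from TopCat.limit_topology _, nhds_iInf]
  refine le_iInf fun j => ?_
  rw [nhds_induced, ← map_le_iff_le_comap]
  cases j with
  | none => exact hs.trans (le_of_eq (congrArg 𝓝 ha.symm))
  | some i => exact (hlim i).trans (le_of_eq (congrArg 𝓝 (hai i).symm))

theorem relT2_pow_fibre (hs : ∀ x x' : X, f x = f x' → x ≠ x' → ∃ U V : Set X, IsOpen U ∧ IsOpen V ∧ x ∈ U ∧ x' ∈ V ∧ Disjoint U V)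
    (n : ℕ) (a b : pow f n)
    (h : WidePullback.base (fun _ : Fin (n + 1) => f) a = WidePullback.base (fun _ : Fin (n + 1) => f) b)
    (hne : a ≠ b) : Disjoint (𝓝 a) (𝓝 b) := by
  obtain ⟨i, hi⟩ : ∃ i, WidePullback.π (fun _ : Fin (n + 1) => f) i a ≠ WidePullback.π (fun _ : Fin (n + 1) => f) i b :=
    not_forall.1 fun h' => hne (pow_ext f h')
  let p : pow f n ⟶ X := WidePullback.π (fun _ : Fin (n + 1) => f) i
  obtain ⟨U, V, hU, hV, haU, hbV, hUV⟩ := hs (p a) (p b)
    ((ConcreteCategory.congr_hom (pow_π_base f n i) a).trans (h.trans (ConcreteCategory.congr_hom (pow_π_base f n i) b).symm)) hi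
  exact Filter.disjoint_iff.2 ⟨p ⁻¹' U, (hU.preimage p.hom.continuous).mem_nhds haU, p ⁻¹' V,
    (hV.preimage p.hom.continuous).mem_nhds hbV, hUV.preimage _⟩

variable (y : S)

/-- The fibres over a point. -/
noncomputable def fibLev : SimplexCategoryᵒᵖ ⥤ TopCat.{u} where
  obj n := pullback (θ (FibDesc.cechAug f) n.unop) (cst y)
  map {n m} a := pullback.lift (pullback.fst _ _ ≫ spMap (FibDesc.cechAug f) a.unop) (pullback.snd _ _) (by
    rw [Category.assoc, θ_comp]
    exact pullback.condition)
  map_id n := by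
    refine pullback.hom_ext ?_ ?_
    · simp only [unop_id, spMap_id, pullback.lift_fst, Category.id_comp, Category.comp_id]
    · simp
  map_comp {n m k} a b := by
    refine pullback.hom_ext ?_ ?_
    · simp only [pullback.lift_fst, Category.assoc, unop_comp, ← spMap_comp, pullback.lift_fst_assoc]
    · simp

/-- The fibre as an augmented simplicial space. -/
noncomputable def fibAug : (WithInitial SimplexCategory)ᵒᵖ ⥤ TopCat.{u} :=
  mkAug ptT.{u} (fibLev f y) (fun n => pullback.snd (θ (FibDesc.cechAug f) n) (cst y))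
    fun _ => pullback.lift_snd _ _ _

/-- Its map to the Čech nerve. -/
noncomputable def fibMor : AugMap (fibAug f y) (FibDesc.cechAug f) where
  τ :=
    { t := fun n => pullback.fst (θ (FibDesc.cechAug f) n) (cst y)
      nat := fun {n m} a => pullback.lift_fst (f := θ (FibDesc.cechAug f) n) (g := cst y) _ _ _ }
  g := cst y
  w n := pullback.condition

instance subsingleton_base_fibAug : Subsingleton (base (fibAug f y)) :=
  inferInstanceAs (Subsingleton PUnit.{u + 1})

theorem isFibre_fibMor (hf : IsProperMap f)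
    (hs : ∀ x x' : X, f x = f x' → x ≠ x' → ∃ U V : Set X, IsOpen U ∧ IsOpen V ∧ x ∈ U ∧ x' ∈ V ∧ Disjoint U V) :
    (fibMor f y).IsFibre y := by
  have hemb : ∀ n, IsEmbedding ((fibMor f y).τ.t n) := fun n =>
    TopCat.fst_isEmbedding_of_right _ (IsEmbedding.of_subsingleton _)
  have hrange : ∀ n, Set.range ((fibMor f y).τ.t n) = θ (FibDesc.cechAug f) n ⁻¹' {y} := by
    intro n
    refine (TopCat.pullback_fst_range _ _).trans ?_
    ext x
    exact ⟨fun ⟨_, h⟩ => h, fun h => ⟨PUnit.unit, h⟩⟩
  have hsep : ∀ n, PtTop.RelT2 (Set.range ((fibMor f y).τ.t n)) := fun n => by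
    rw [hrange]
    exact fun a ha b hb hne => relT2_pow_fibre f hs n.len a b (Eq.trans ha (Eq.symm hb)) hne
  refine ⟨fun _ => rfl, fun n => (hemb n).isInducing, fun n x hx => (hrange n).ge hx,
    fun n => (isProperMap_pow_base f hf n.len).isClosedMap, fun n => ?_, fun n => ?_, hsep⟩
  · refine ⟨(hemb n).isInducing.isCompact_iff.2 ?_⟩
    rw [Set.image_univ, hrange]
    exact (isProperMap_iff_isClosedMap_and_compact_fibers.1 (isProperMap_pow_base f hf n.len)).2.2 y
  · refine t2Space_iff_disjoint_nhds.2 fun a b h => ?_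
    show Disjoint (𝓝 a) (𝓝 b)
    rw [(hemb n).isInducing.nhds_eq_comap, (hemb n).isInducing.nhds_eq_comap]
    exact Filter.disjoint_comap (hsep n _ ⟨a, rfl⟩ _ ⟨b, rfl⟩ fun e => h ((hemb n).injective e))

theorem isCohDescentTop_fibAug (hsurj : Function.Surjective f) : FibDesc.IsCohDescentTop (fibAug f y) := by
  obtain ⟨x, hx⟩ := hsurj y
  refine isCohDescentTop_of_baseChange f (W := fibAug f y) (cst y)
    (fun n => pullback.fst (θ (FibDesc.cechAug f) n) (cst y)) (fun {n m} a => pullback.lift_fst (f := θ (FibDesc.cechAug f) n) (g := cst y) _ _ _)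
    (fun n => IsPullback.of_hasPullback _ _) ?_
  exact isCohDescentMap_of_section (pullback.snd f (cst y))
    (pullback.lift (cst x) (𝟙 _) (by ext; exact hx)) (pullback.lift_snd _ _ _)

theorem isCohDescentMap_of_proper (hf : IsProperMap f)
    (hs : ∀ x x' : X, f x = f x' → x ≠ x' → ∃ U V : Set X, IsOpen U ∧ IsOpen V ∧ x ∈ U ∧ x' ∈ V ∧ Disjoint U V)
    (hsurj : Function.Surjective f) : FibDesc.IsCohDescentMap f := by
  refine ⟨inferInstance, inferInstance, inferInstance, inferInstance, inferInstance, inferInstance, ?_⟩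
  refine bijective_of_quasiIso_transpose (padj (Y := FibDesc.cechAug f)) fun L J a _ _ _ _ q _ => ?_
  refine quasiIso_of_jointly (fun y : S => (fibMor f y).jB) ?_ _ fun y => ?_
  · intro K K' φ h
    have : ∀ y : base (FibDesc.cechAug f),
        IsIso ((TopCat.Presheaf.stalkFunctor AddCommGrpCat.{u} y).map φ.hom) := by
      intro y
      haveI := h y
      exact (NatIso.isIso_map_iff (ClosedPush.pullStkIso (fibMor f y).g PUnit.unit) φ).1
        (inferInstanceAs (IsIso ((ClosedPush.stk (X := ptT.{u}) PUnit.unit).map ((fibMor f y).jB.map φ))))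
    exact TopCat.Presheaf.isIso_of_stalkFunctor_map_iso (X := base (FibDesc.cechAug f)) φ
  · have hF := isFibre_fibMor f y hf hs
    exact (fibMor f y).quasiIso_jB_transpose (isCohDescentTop_fibAug f y hsurj)
      (fun N _ => AugMap.isIso_β hF PUnit.unit N) (fun N _ => AugMap.isAcyclicObj_jP hF PUnit.unit N) L J a q

end Groth.Agent.FibDescLib
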