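import Groth.Agent.FibDescSS.FibreSections
import Groth.Agent.DescSec.ClosedStalk

/-!
Base change and acyclicity at a compact fibre.
-/

set_option autoImplicit false
set_option backward.isDefEq.respectTransparency false
set_option backward.isDefEq.respectTransparency.types false
set_option backward.defeqAttrib.useBackward true
set_option linter.style.haveILetI false

universe u

open CategoryTheory CategoryTheory.Limits Opposite TopologicalSpace Topology
open CategoryTheory.Pseudofunctor CategoryTheory.Pseudofunctor.CoGrothendieck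

namespace Groth.Agent.FibDescLib

namespace AugMap

variable {Y' Y : (WithInitial SimplexCategory)ᵒᵖ ⥤ TopCat.{u}} (M : AugMap Y' Y)

theorem β_pulled (N : DS Y) (V : Opens (base Y)) (s : ((pushF Y).obj N).obj.obj (op V)) :
    (M.β N).hom.app (op ((Opens.map M.g).obj V)) (CompactPull.pulled M.g ((pushF Y).obj N) (U := V) s) =
      (M.pushApp (M.jP.obj N) V).hom (((pushF Y).map (M.ladj.unit.app N)).hom.app (op V) s) := by
  have h := (M.badj.homEquiv_unit _ _ (M.β N)).symm.trans (Equiv.apply_symm_apply _ _)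
  exact ConcreteCategory.congr_hom (congr_app (congrArg (fun φ => φ.hom) h) (op V)) s

variable {y : base Y}

theorem β_spec (hy : ∀ p, M.g p = y) (N : DS Y) (V : Opens (base Y)) (hV : y ∈ V)
    (hle : (⊤ : Opens (base Y')) ≤ (Opens.map M.g).obj V)
    (s : ((pushF Y).obj N).obj.obj (op V)) (n : SimplexCategory) :
    pπ (M.jP.obj N) (n := n) (U := (⊤ : Opens (base Y'))) le_rfl
        ((M.β N).hom.app (op (⊤ : Opens (base Y'))) ((M.jB.obj ((pushF Y).obj N)).obj.map (homOfLE hle).op
          (CompactPull.pulled M.g ((pushF Y).obj N) (U := V) s))) =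
      (M.toFib y hy V hV N).app n (pπ N (n := n) le_rfl s) := by
  have h' : (Opens.map (θ Y' n)).obj (⊤ : Opens (base Y')) ≤
      (Opens.map (spMap Y' (𝟙 n))).obj ((Opens.map (θ Y' n)).obj ((Opens.map M.g).obj V)) := by
    rw [spMap_id]; exact ((Opens.map _).map (homOfLE hle)).le
  refine (congrArg _ (ConcreteCategory.congr_hom ((M.β N).hom.naturality (homOfLE hle).op) _)).trans ?_
  refine (ConcreteCategory.congr_hom (map_pπ (M.jP.obj N) (homOfLE hle) h') _).trans ?_
  refine (congrArg (fun t => (M.jP.obj N).obj.map _ (pπ (M.jP.obj N) le_rfl t)) (M.β_pulled N V s)).trans ?_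
  refine (congrArg ((M.jP.obj N).obj.map _) (ConcreteCategory.congr_hom (M.pushApp_spec (M.jP.obj N) V n) _)).trans ?_
  refine (congrArg (fun t => (M.jP.obj N).obj.map _ ((M.jP.obj N).obj.map (M.eU n V).op t))
    (ConcreteCategory.congr_hom (pushMap_pπ (n := n) (U := V) (M.ladj.unit.app N)) s)).trans ?_
  refine (ConcreteCategory.congr_hom ((M.jP.obj N).obj.map_comp _ _) _).symm.trans ?_
  exact congrArg (fun g => (M.jP.obj N).obj.map g ((M.ladj.unit.app N).hom.app _ (pπ N le_rfl s)))
    (Quiver.Hom.unop_inj (tot_hom_ext (by simp [LMap.H])))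

/-- The vertex arrows. -/
abbrev vtx (n : SimplexCategory) (i : Fin (n.len + 1)) : SimplexCategory.mk 0 ⟶ n :=
  SimplexCategory.const (SimplexCategory.mk 0) n i

theorem map_vtx_eq {F : SimplexCategory ⥤ AddCommGrpCat.{u}} (s : F.obj (SimplexCategory.mk 0))
    (h : F.map (vtx (SimplexCategory.mk 1) 0) s = F.map (vtx (SimplexCategory.mk 1) 1) s)
    (m : SimplexCategory) (i : Fin (m.len + 1)) : F.map (vtx m i) s = F.map (vtx m 0) s := by
  let e : SimplexCategory.mk 1 ⟶ m := SimplexCategory.mkOfLe (n := m.len) 0 i (Fin.zero_le _)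
  have e0 : vtx (SimplexCategory.mk 1) 0 ≫ e = vtx m 0 := rfl
  have e1 : vtx (SimplexCategory.mk 1) 1 ≫ e = vtx m i := rfl
  rw [← e0, ← e1, Functor.map_comp, Functor.map_comp, ConcreteCategory.comp_apply, ConcreteCategory.comp_apply, h]

variable {M} (hF : M.IsFibre y)
include hF

theorem bijective_β_top [Subsingleton (base Y')] (p₀ : base Y') (N : DS Y) :
    Function.Bijective ((M.β N).hom.app (op (⊤ : Opens (base Y')))) := by
  have hle : ∀ V : Opens (base Y), y ∈ V → (⊤ : Opens (base Y')) ≤ (Opens.map M.g).obj V := fun V hV p _ => by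
    show M.g p ∈ V
    rw [hF.eq]
    exact hV
  have hg : IsInducing M.g := ⟨Subsingleton.elim _ _⟩
  constructor
  · rw [injective_iff_map_eq_zero]
    intro a ha
    obtain ⟨V, hp, s, W', hW', hs⟩ :=
      CompactPull.exists_pulled_germ M.g ((pushF Y).obj N) hg (W := (⊤ : Opens (base Y'))) a p₀ trivial
    have hV : y ∈ V := hF.eq p₀ ▸ hp
    have ha' : a = (M.jB.obj ((pushF Y).obj N)).obj.map (homOfLE (hle V hV)).op
        (CompactPull.pulled M.g ((pushF Y).obj N) (U := V) s) :=
      CompactPull.eq_of_gm _ _ _ fun p hp' => by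
        obtain rfl := Subsingleton.elim p p₀
        exact ((CompactPull.gm_res _ (hle V hV) _ p hp').trans (hs p trivial (hle V hV hp') hW')).symm
    have h0 : (M.toFib y hF.eq V hV N).app (SimplexCategory.mk 0)
        (pπ N (n := SimplexCategory.mk 0) le_rfl s) = 0 := by
      rw [← M.β_spec hF.eq N V hV (hle V hV) s, ← ha', ha, map_zero]
    obtain ⟨V', h, hV', hz⟩ := M.exists_resU_eq_zero hF _ N hV _ h0
    have hz' : ((pushF Y).obj N).obj.map (homOfLE h).op s = 0 := pπ_ext_elem fun n => by
      have hn : (Opens.map (θ Y n)).obj V' ≤ (Opens.map (spMap Y (𝟙 n))).obj ((Opens.map (θ Y n)).obj V) := by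
        rw [spMap_id]; exact ((Opens.map _).map (homOfLE h)).le
      refine Eq.trans ?_ (map_zero _).symm
      refine (ConcreteCategory.congr_hom (map_pπ N (homOfLE h) hn) s).trans ?_
      have e1 : ((tsecU Y V).obj N).map (vtx n 0) (pπ N (n := SimplexCategory.mk 0) le_rfl s) =
          pπ N (n := n) le_rfl s := ConcreteCategory.congr_hom (pπ_compat N (vtx n 0) V) s
      refine (congrArg ((resU h N).app n) e1.symm).trans ?_
      refine (ConcreteCategory.congr_hom ((resU h N).naturality (vtx n 0)) _).trans ?_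
      exact (congrArg _ hz).trans (map_zero (((tsecU Y V').obj N).map (vtx n 0)).hom)
    rw [ha']
    refine CompactPull.eq_of_gm _ _ _ fun p hp' => ?_
    refine (CompactPull.gm_res _ (hle V hV) _ p hp').trans ?_
    refine Eq.trans ?_ (map_zero _).symm
    refine (CompactPull.stalkCmp_germ M.g ((pushF Y).obj N) s p (hle V hV hp')).symm.trans ?_
    rw [← CompactPull.gm_res ((pushF Y).obj N) h s (M.g p) (hle V' hV' hp'), hz']
    simp [map_zero]
    exact map_zero (CompactPull.stalkCmp M.g ((pushF Y).obj N) p).hom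
  · intro t
    let x : ∀ n, ((tsec Y').obj (M.jP.obj N)).obj n := fun n => pπ (M.jP.obj N) (n := n) (U := (⊤ : Opens (base Y'))) le_rfl t
    have hx : ∀ {n m : SimplexCategory} (a : n ⟶ m), ((tsec Y').obj (M.jP.obj N)).map a (x n) = x m :=
      fun a => ConcreteCategory.congr_hom (pπ_compat (M.jP.obj N) a (⊤ : Opens (base Y'))) t
    obtain ⟨V, hV, s0, hs0⟩ := M.exists_toFib_eq hF (SimplexCategory.mk 0) N (x _)
    let K := (tsecU Y V).obj N
    let d := K.map (vtx (SimplexCategory.mk 1) 0) s0 - K.map (vtx (SimplexCategory.mk 1) 1) s0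
    have hnat : ∀ n (i : Fin (n.len + 1)),
        (M.toFib y hF.eq V hV N).app n (K.map (vtx n i) s0) = x n := fun n i => by
      refine (ConcreteCategory.congr_hom ((M.toFib y hF.eq V hV N).naturality (vtx n i)) s0).trans ?_
      exact (congrArg _ hs0).trans (hx _)
    have hd : (M.toFib y hF.eq V hV N).app (SimplexCategory.mk 1) d = 0 := by
      simp only [d, map_sub, hnat, sub_self]
    obtain ⟨V', h, hV', hz⟩ := M.exists_resU_eq_zero hF _ N hV d hd
    let K' := (tsecU Y V').obj N
    let s0' := (resU h N).app (SimplexCategory.mk 0) s0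
    have hr : ∀ n (i : Fin (n.len + 1)), (resU h N).app n (K.map (vtx n i) s0) = K'.map (vtx n i) s0' :=
      fun n i => ConcreteCategory.congr_hom ((resU h N).naturality (vtx n i)) s0
    have hcomp : K'.map (vtx (SimplexCategory.mk 1) 0) s0' = K'.map (vtx (SimplexCategory.mk 1) 1) s0' := by
      rw [← hr, ← hr, ← sub_eq_zero, ← map_sub]
      exact hz
    obtain ⟨b, hb⟩ := exists_plift_elem (N := N) (U := V') (fun n => K'.map (vtx n 0) s0') fun {n m} a => by
      show K'.map a (K'.map (vtx n 0) s0') = _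
      rw [← ConcreteCategory.comp_apply, ← Functor.map_comp]
      exact map_vtx_eq s0' hcomp m (a.toOrderHom 0)
    refine ⟨(M.jB.obj ((pushF Y).obj N)).obj.map (homOfLE (hle V' hV')).op
      (CompactPull.pulled M.g ((pushF Y).obj N) (U := V') b), pπ_ext_elem fun n => ?_⟩
    refine (M.β_spec hF.eq N V' hV' (hle V' hV') b n).trans ?_
    refine (congrArg _ ((hb n).trans (hr n 0).symm)).trans ?_
    exact (ConcreteCategory.congr_hom (congr_app (M.resU_toFib y hF.eq h hV hV' N) n) _).trans (hnat n 0)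

theorem isIso_β [Subsingleton (base Y')] (p₀ : base Y') (N : DS Y) : IsIso (M.β N) := by
  have : ∀ x, IsIso ((M.β N).hom.app x) := by
    intro z
    obtain ⟨W, rfl⟩ : ∃ W : Opens (base Y'), z = op W := ⟨z.unop, rfl⟩
    by_cases hp : p₀ ∈ W
    · have hW : W = ⊤ := top_unique fun p _ => by rwa [Subsingleton.elim p p₀]
      subst hW
      exact (ConcreteCategory.isIso_iff_bijective _).2 (M.bijective_β_top hF p₀ N)
    · have hW : W = ⊥ := bot_unique fun p hpW => (hp (by rwa [Subsingleton.elim p p₀] at hpW)).elim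
      subst hW
      exact isIso_of_source_target_iso_zero _ (TopCat.Sheaf.isTerminalOfEmpty _).isZero.isoZero
        (TopCat.Sheaf.isTerminalOfEmpty _).isZero.isoZero
  have : IsIso (M.β N).hom := NatIso.isIso_of_isIso_app _
  have : IsIso ((sheafToPresheaf _ _).map (M.β N)) := ‹IsIso (M.β N).hom›
  exact isIso_of_reflects_iso _ (sheafToPresheaf _ _)

theorem isZero_homology_tsec (N : DS Y) [Injective N] (k : ℕ) :
    IsZero (((SSExist.Cosimp.cxF AddCommGrpCat.{u}).obj ((tsec Y').obj (M.jP.obj N))).homology (k + 1)) := by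
  let C := (SSExist.Cosimp.cxF AddCommGrpCat.{u})
  refine HomologicalComplex.ExactAt.isZero_homology ?_
  rw [HomologicalComplex.exactAt_iff' _ k (k + 1) (k + 1 + 1) (by simp) (by simp), ShortComplex.ab_exact_iff]
  intro x hx
  obtain ⟨V, hV, s, hs⟩ := M.exists_toFib_eq hF (SimplexCategory.mk (k + 1)) N x
  let φ := fun (W : Opens (base Y)) (hW : y ∈ W) => C.map (M.toFib y hF.eq W hW N)
  let d := ((C.obj ((tsecU Y V).obj N)).d (k + 1) (k + 1 + 1)) s
  have hd : (M.toFib y hF.eq V hV N).app (SimplexCategory.mk (k + 1 + 1)) d = 0 := by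
    refine (ConcreteCategory.congr_hom ((φ V hV).comm (k + 1) (k + 1 + 1)) s).symm.trans ?_
    exact (congrArg _ hs).trans hx
  obtain ⟨V', h, hV', hz⟩ := M.exists_resU_eq_zero hF _ N hV d hd
  let ρ := C.map (resU h N)
  have hcyc : (C.obj ((tsecU Y V').obj N)).d (k + 1) (k + 1 + 1) (ρ.f (k + 1) s) = 0 :=
    (ConcreteCategory.congr_hom (ρ.comm (k + 1) (k + 1 + 1)) s).trans hz
  have hex : (C.obj ((tsecU Y V').obj N)).ExactAt (k + 1) := by
    haveI := injective_tsecU Y V' N
    haveI : EnoughInjectives (SimplexCategory ⥤ AddCommGrpCat.{u}) := enoughInjectives_cosimplicial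
    haveI : HasInjectiveResolutions (SimplexCategory ⥤ AddCommGrpCat.{u}) := inferInstance
    haveI : (lim : (SimplexCategory ⥤ AddCommGrpCat.{u}) ⥤ AddCommGrpCat.{u}).Additive :=
      ⟨fun {_ _ f g} => limit.hom_ext fun j => by simp⟩
    rw [HomologicalComplex.exactAt_iff_isZero_homology]
    exact (Functor.isZero_rightDerived_obj_injective_succ (lim : (SimplexCategory ⥤ AddCommGrpCat.{u}) ⥤ _) k
      ((tsecU Y V').obj N)).of_iso (SSExist.Cosimp.nonempty_rightDerived_lim_iso ((tsecU Y V').obj N) (k + 1)).some.symm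
  rw [HomologicalComplex.exactAt_iff' _ k (k + 1) (k + 1 + 1) (by simp) (by simp), ShortComplex.ab_exact_iff] at hex
  obtain ⟨w, hw⟩ := hex _ hcyc
  refine ⟨(φ V' hV').f k w, ?_⟩
  refine (ConcreteCategory.congr_hom ((φ V' hV').comm k (k + 1)) w).trans ?_
  refine (congrArg ((φ V' hV').f (k + 1)) hw).trans ?_
  exact (ConcreteCategory.congr_hom (congr_app (M.resU_toFib y hF.eq h hV hV' N) (SimplexCategory.mk (k + 1))) s).trans hs

theorem isAcyclicObj_jP [Subsingleton (base Y')] (p₀ : base Y') (N : DS Y) [Injective N] :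
    TriH.IsAcyclicObj (pushF Y') (M.jP.obj N) := by
  intro q hq
  obtain ⟨k, rfl⟩ := Nat.exists_eq_succ_of_ne_zero hq.ne'
  haveI : HasInjectiveResolutions (DS Y') := inferInstance
  haveI : EnoughInjectives (SimplexCategory ⥤ AddCommGrpCat.{u}) := enoughInjectives_cosimplicial
  haveI : HasInjectiveResolutions (SimplexCategory ⥤ AddCommGrpCat.{u}) := inferInstance
  haveI : (lim : (SimplexCategory ⥤ AddCommGrpCat.{u}) ⥤ AddCommGrpCat.{u}).Additive :=
    ⟨fun {_ _ f g} => limit.hom_ext fun j => by simp⟩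
  haveI : PreservesFiniteLimits (tsec Y') := by
    haveI : PreservesLimitsOfSize.{0, 0} (sheafToPresheaf (totTop Y') AddCommGrpCat.{u}) :=
      (sheafificationAdjunction _ _).rightAdjoint_preservesLimits
    unfold tsec
    infer_instance
  have hU : ∀ r, IsZero (((tsec Y').rightDerived (r + 1)).obj (M.jP.obj N)) := by
    intro r
    refine Functor.isZero _ fun n => ?_
    let ev : (SimplexCategory ⥤ AddCommGrpCat.{u}) ⥤ AddCommGrpCat.{u} := (evaluation _ _).obj n
    let Γ : CohTop.Ab (sp Y' n) ⥤ AddCommGrpCat.{u} :=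
      (sheafSections (Opens.grothendieckTopology (sp Y' n)) AddCommGrpCat.{u}).obj (op ⊤)
    haveI : Γ.Additive := { map_add := rfl }
    haveI : PreservesFiniteLimits Γ := preservesFiniteLimits_of_natIso (gammaIso (sp Y' n)).symm
    let e₁ := (DescSec.nonempty_rightDerived_comp_exact (tsec Y') ev (M.jP.obj N) (r + 1)).some
    let e₂ := (DescSec.nonempty_rightDerived_precomp (lv Y' n) (fun I hI => haveI := hI; injective_lv Y' n I) Γ
      (M.jP.obj N) (r + 1)).some
    let e₃ := (DescSec.nonempty_rightDerived_of_iso (T := tsec Y' ⋙ ev) (T' := lv Y' n ⋙ Γ) (Iso.refl _)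
      (M.jP.obj N) (r + 1)).some
    haveI := hF.compact n
    haveI := hF.t2 n
    haveI := M.isIso_μ n N
    haveI := injective_lv Y n N
    have hz := CompactPull.isZero_rightDerived_sections (M.τ.t n) (hF.inducing n) (hF.sep n) ((lv Y n).obj N) r
    exact (hz.of_iso ((Γ.rightDerived (r + 1)).mapIso (asIso (M.μ n N))).symm).of_iso
      (e₁.symm ≪≫ e₃ ≪≫ e₂ : _)
  have hlim : IsZero (((tsec Y' ⋙ lim).rightDerived (k + 1)).obj (M.jP.obj N)) := by
    obtain ⟨e⟩ := DescSec.nonempty_rightDerived_comp_of_acyclic (tsec Y') (fun I hI => haveI := hI; injective_tsec Y' I)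
      (lim : (SimplexCategory ⥤ AddCommGrpCat.{u}) ⥤ AddCommGrpCat.{u}) (M.jP.obj N) hU _ ⟨Iso.refl _⟩ (k + 1)
    exact (M.isZero_homology_tsec hF N k).of_iso (e ≪≫
      (SSExist.Cosimp.nonempty_rightDerived_lim_iso ((tsec Y').obj (M.jP.obj N)) (k + 1)).some)
  refine DescSec.isZero_of_stk fun x => ?_
  haveI : (DescSec.stA (X := base Y') x).Additive := DescSec.stA_additive x
  haveI : (DescSec.stA (X := base Y') x).PreservesHomology := DescSec.stA_preservesHomology x
  let Γ0 := (sheafSections (Opens.grothendieckTopology (base Y')) AddCommGrpCat.{u}).obj (op (⊤ : Opens (base Y')))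
  haveI : Γ0.Additive := { map_add := rfl }
  let γ : Γ0 ⟶ DescSec.stA x :=
    { app := fun F => TopCat.Presheaf.germ (C := AddCommGrpCat.{u}) F.obj ⊤ x trivial
      naturality := fun F G φ => (TopCat.Presheaf.stalkFunctor_map_germ (⊤ : Opens (base Y')) x trivial φ.hom).symm }
  haveI : ∀ F, IsIso (γ.app F) := fun F => by
    refine (ConcreteCategory.isIso_iff_bijective _).2 ⟨fun a b h => CompactPull.eq_of_gm F a b fun p hp => ?_, fun c => ?_⟩
    · obtain rfl := Subsingleton.elim p x
      exact h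
    · obtain ⟨U, hxU, s, rfl⟩ := TopCat.Presheaf.germ_exist (F := F.obj) c
      have hU : (⊤ : Opens (base Y')) ≤ U := fun p _ => by rwa [Subsingleton.elim p x]
      exact ⟨F.obj.map (homOfLE hU).op s, TopCat.Presheaf.germ_res_apply F.obj (homOfLE hU) x trivial s⟩
  haveI : IsIso γ := NatIso.isIso_of_isIso_app _
  let e : tsec Y' ⋙ lim ≅ pushF Y' ⋙ DescSec.stA x :=
    (secIso Y').symm ≪≫ Functor.isoWhiskerLeft (pushF Y') (asIso γ)
  exact (hlim.of_iso (DescSec.nonempty_rightDerived_of_iso e (M.jP.obj N) (k + 1)).some.symm).of_iso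
    (DescSec.nonempty_rightDerived_comp_exact (pushF Y') (DescSec.stA x) (M.jP.obj N) (k + 1)).some.symm

end AugMap

end Groth.Agent.FibDescLib
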