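import Groth.Agent.FibDescSS.LevelBC
import Groth.Agent.CompactPull.Stalk
import Groth.Agent.FibDescLib.SecInjective

/-!
Sections near a compact fibre of an augmented simplicial space.
-/

set_option autoImplicit false
set_option backward.isDefEq.respectTransparency false
set_option backward.isDefEq.respectTransparency.types false
set_option backward.defeqAttrib.useBackward true
set_option linter.style.haveILetI false

universe u

open CategoryTheory CategoryTheory.Limits Opposite TopologicalSpace Topology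
open CategoryTheory.Pseudofunctor CategoryTheory.Pseudofunctor.CoGrothendieck

namespace Groth.Agent.FibDescLib

/-- An element, as a morphism from the integers. -/
noncomputable def zel {A : AddCommGrpCat.{u}} (a : A) : AddCommGrpCat.of (ULift.{u} ℤ) ⟶ A :=
  (AddCommGrpCat.uliftZMultiplesAddEquiv A).symm a

theorem zel_one {A : AddCommGrpCat.{u}} (a : A) : zel a (ULift.up 1) = a :=
  (AddCommGrpCat.uliftZMultiplesAddEquiv A).apply_symm_apply a

theorem zel_ext {A : AddCommGrpCat.{u}} {f f' : AddCommGrpCat.of (ULift.{u} ℤ) ⟶ A}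
    (h : f (ULift.up 1) = f' (ULift.up 1)) : f = f' :=
  (AddCommGrpCat.uliftZMultiplesAddEquiv A).injective h

section Elem

variable {D : Type} [SmallCategory D] {Y : (WithInitial D)ᵒᵖ ⥤ TopCat.{u}}

theorem pπ_ext_elem {N : DS Y} {U : Opens (base Y)} {a b : ((pushF Y).obj N).obj.obj (op U)}
    (h : ∀ n, pπ N (n := n) (U := U) le_rfl a = pπ N (n := n) le_rfl b) : a = b := by
  have e : zel a = zel b := pπ_ext fun n => zel_ext (by
    rw [ConcreteCategory.comp_apply, ConcreteCategory.comp_apply, zel_one, zel_one]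
    exact h n)
  rw [← zel_one a, ← zel_one b, e]

theorem exists_plift_elem {N : DS Y} {U : Opens (base Y)}
    (s : ∀ n, N.obj.obj (op (pob n ((Opens.map (θ Y n)).obj U))))
    (hs : ∀ {n m} (a : n ⟶ m), N.obj.map (phθ a U).op (s n) = s m) :
    ∃ b : ((pushF Y).obj N).obj.obj (op U), ∀ n, pπ N (n := n) le_rfl b = s n := by
  obtain ⟨f, hf⟩ := exists_plift (N := N) (U := U) (fun n => zel (s n)) fun n m a h => zel_ext (by
    rw [ConcreteCategory.comp_apply, zel_one, zel_one]
    exact (hs a).symm)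
  exact ⟨f (ULift.up 1), fun n => by rw [← ConcreteCategory.comp_apply, hf, zel_one]⟩

end Elem

namespace AugMap

variable {Y' Y : (WithInitial SimplexCategory)ᵒᵖ ⥤ TopCat.{u}} (M : AugMap Y' Y) (y : base Y)

theorem fib_top (hy : ∀ p, M.g p = y) (n : SimplexCategory) (V : Opens (base Y)) (hV : y ∈ V) :
    (⊤ : Opens (sp Y' n)) ≤ (Opens.map (spMap Y' (𝟙 n))).obj ((Opens.map (M.τ.t n)).obj ((Opens.map (θ Y n)).obj V)) := by
  intro z _
  show θ Y n (M.τ.t n (spMap Y' (𝟙 n) z)) ∈ V
  have e := ConcreteCategory.congr_hom (M.w n) (spMap Y' (𝟙 n) z)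
  exact e.symm ▸ (hy _).symm ▸ hV

/-- The arrow to the preimage. -/
noncomputable abbrev kV (hy : ∀ p, M.g p = y) (n : SimplexCategory) (V : Opens (base Y)) (hV : y ∈ V) :
    pob n (⊤ : Opens (sp Y' n)) ⟶ M.τ.H.obj (pob n ((Opens.map (θ Y n)).obj V)) :=
  (ph (𝟙 n) (M.fib_top y hy n V hV) :
    pob n (⊤ : Opens (sp Y' n)) ⟶ pob n ((Opens.map (M.τ.t n)).obj ((Opens.map (θ Y n)).obj V)))

/-- Restriction to the fibre. -/
noncomputable def toFib (hy : ∀ p, M.g p = y) (V : Opens (base Y)) (hV : y ∈ V) (N : DS Y) :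
    (tsecU Y V).obj N ⟶ (tsec Y').obj (M.jP.obj N) where
  app n := (M.ladj.unit.app N).hom.app (op (pob n ((Opens.map (θ Y n)).obj V))) ≫
    (M.jP.obj N).obj.map (M.kV y hy n V hV).op
  naturality n m a := by
    refine (Category.assoc _ _ _).symm.trans ?_
    refine (congrArg (fun t => t ≫ _) ((M.ladj.unit.app N).hom.naturality (phθ a V).op)).trans ?_
    refine (Category.assoc _ _ _).trans (Eq.trans ?_ (Category.assoc _ _ _).symm)
    refine congrArg (CategoryStruct.comp _) ?_
    show (M.jP.obj N).obj.map (M.τ.H.map (phθ a V)).op ≫ (M.jP.obj N).obj.map (M.kV y hy m V hV).op =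
      (M.jP.obj N).obj.map (M.kV y hy n V hV).op ≫ (M.jP.obj N).obj.map ((topK Y').map a)
    rw [← Functor.map_comp, ← Functor.map_comp]
    exact congrArg _ (Quiver.Hom.unop_inj (tot_hom_ext (by simp [LMap.H, topK])))

/-- Restriction to a smaller open set of the base. -/
noncomputable def resU {V V' : Opens (base Y)} (h : V' ≤ V) (N : DS Y) :
    (tsecU Y V).obj N ⟶ (tsecU Y V').obj N where
  app n := N.obj.map (ph (Y := Y) (𝟙 n) (by rw [spMap_id]; exact ((Opens.map (θ Y n)).map (homOfLE h)).le) :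
    pob n ((Opens.map (θ Y n)).obj V') ⟶ pob n ((Opens.map (θ Y n)).obj V)).op
  naturality n m a := by
    show N.obj.map (phθ a V).op ≫ _ = _ ≫ N.obj.map (phθ a V').op
    rw [← Functor.map_comp, ← Functor.map_comp]
    exact congrArg _ (Quiver.Hom.unop_inj (tot_hom_ext (by simp; exact (Category.id_comp _).trans (Category.comp_id _).symm)))

theorem resU_toFib (hy : ∀ p, M.g p = y) {V V' : Opens (base Y)} (h : V' ≤ V) (hV : y ∈ V) (hV' : y ∈ V') (N : DS Y) :
    resU h N ≫ M.toFib y hy V' hV' N = M.toFib y hy V hV N := by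
  apply NatTrans.ext
  funext n
  show _ ≫ _ ≫ _ = _ ≫ _
  refine (Category.assoc _ _ _).symm.trans ?_
  refine (congrArg (fun t => t ≫ _) ((M.ladj.unit.app N).hom.naturality _)).trans ?_
  refine (Category.assoc _ _ _).trans ?_
  refine congrArg (CategoryStruct.comp _) ?_
  refine ((M.jP.obj N).obj.map_comp _ _).symm.trans ?_
  exact congrArg _ (Quiver.Hom.unop_inj (tot_hom_ext (by simp [LMap.H]; exact Category.comp_id _)))

/-- The hypotheses on a fibre. -/
structure IsFibre : Prop where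
  eq : ∀ p, M.g p = y
  inducing : ∀ n, IsInducing (M.τ.t n)
  range : ∀ n x, θ Y n x = y → x ∈ Set.range (M.τ.t n)
  closed : ∀ n, IsClosedMap (θ Y n)
  compact : ∀ n, CompactSpace (sp Y' n)
  t2 : ∀ n, T2Space (sp Y' n)
  sep : ∀ n, PtTop.RelT2 (Set.range (M.τ.t n))

variable {M y} (hF : M.IsFibre y)
include hF

theorem fibre_comm (n : SimplexCategory) (z : sp Y' n) : θ Y n (M.τ.t n z) = y :=
  (ConcreteCategory.congr_hom (M.w n) z).trans (hF.eq _)

theorem toFib_app_eq (n : SimplexCategory) {V : Opens (base Y)} (hV : y ∈ V) (N : DS Y)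
    (s : N.obj.obj (op (pob n ((Opens.map (θ Y n)).obj V)))) :
    (M.toFib y hF.eq V hV N).app n s =
      (M.μ n N).hom.app (op (⊤ : Opens (sp Y' n))) (CompactPull.cApp (θ Y n) y (M.τ.t n) (M.fibre_comm hF n)
        ((lv Y n).obj N) (CompactPull.gm ((CohTop.push (θ Y n)).obj ((lv Y n).obj N)) V y hV s)) := by
  rw [CompactPull.cApp_germ]
  refine Eq.trans ?_ (ConcreteCategory.congr_hom ((M.μ n N).hom.naturality _) _).symm
  refine Eq.trans ?_ (congrArg _ (M.μ_pulled n N ((Opens.map (θ Y n)).obj V) s)).symm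
  exact congrArg (fun g => (M.jP.obj N).obj.map g ((M.ladj.unit.app N).hom.app _ s))
    (Quiver.Hom.unop_inj (tot_hom_ext (by simp [LMap.H, ιp])))

theorem bijective_cmp (n : SimplexCategory) (N : DS Y) :
    Function.Bijective fun a => (M.μ n N).hom.app (op (⊤ : Opens (sp Y' n)))
      (CompactPull.cApp (θ Y n) y (M.τ.t n) (M.fibre_comm hF n) ((lv Y n).obj N) a) := by
  haveI := hF.compact n
  haveI := M.isIso_μ n N
  have h1 : Function.Bijective ((M.μ n N).hom.app (op (⊤ : Opens (sp Y' n)))) :=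
    ConcreteCategory.bijective_of_isIso (C := AddCommGrpCat.{u})
      (((sheafToPresheaf _ _).map (M.μ n N)).app (op (⊤ : Opens (sp Y' n))))
  exact h1.comp (CompactPull.bijective_cApp (θ Y n) y (M.τ.t n) (M.fibre_comm hF n) (hF.inducing n)
    (hF.range n) (hF.closed n) (hF.sep n) _)

theorem exists_toFib_eq (n : SimplexCategory) (N : DS Y) (t : ((tsec Y').obj (M.jP.obj N)).obj n) :
    ∃ (V : Opens (base Y)) (hV : y ∈ V) (s : ((tsecU Y V).obj N).obj n), (M.toFib y hF.eq V hV N).app n s = t := by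
  obtain ⟨a, ha⟩ := (M.bijective_cmp hF n N).2 t
  obtain ⟨V, hV, s, rfl⟩ := TopCat.Presheaf.germ_exist (F := ((CohTop.push (θ Y n)).obj ((lv Y n).obj N)).obj) a
  exact ⟨V, hV, s, (M.toFib_app_eq hF n hV N s).trans ha⟩

theorem exists_resU_eq_zero (n : SimplexCategory) (N : DS Y) {V : Opens (base Y)} (hV : y ∈ V)
    (s : ((tsecU Y V).obj N).obj n) (hs : (M.toFib y hF.eq V hV N).app n s = 0) :
    ∃ (V' : Opens (base Y)) (h : V' ≤ V), y ∈ V' ∧ (resU h N).app n s = 0 := by
  let P := (CohTop.push (θ Y n)).obj ((lv Y n).obj N)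
  have h0 : CompactPull.gm P V y hV s = CompactPull.gm P V y hV 0 := by
    refine Eq.trans ?_ (map_zero _).symm
    refine (M.bijective_cmp hF n N).1 ?_
    exact ((M.toFib_app_eq hF n hV N s).symm.trans hs).trans (by simp; exact (map_zero _).symm)
  obtain ⟨W, hyW, i, j, e⟩ := TopCat.Presheaf.germ_eq P.obj y hV hV s 0 h0
  refine ⟨W, i.le, hyW, ?_⟩
  refine Eq.trans ?_ (e.trans (map_zero _))
  exact congrArg (fun g => N.obj.map g s) (Quiver.Hom.unop_inj (tot_hom_ext (by simp [ιp])))

omit hF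

end AugMap

end Groth.Agent.FibDescLib
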